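import Mathlib.Algebra.Category.ModuleCat.Abelian
import Mathlib.AlgebraicTopology.AlternatingFaceMapComplex
import Mathlib.RingTheory.Finiteness.Basic
import Mathlib.RingTheory.Noetherian.Basic
import Mathlib.Data.Fintype.Pi

/-!
# Cech complexes of monotone systems of submodules of a fixed module
-/

noncomputable section

universe u

open CategoryTheory AlgebraicTopology Simplicial

namespace Groth.Agent.CechSys

variable (R : Type u) [CommRing R] (ι : Type u) (W : Type u) [AddCommGroup W] [Module R W]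

/-- Cochains: all functions on tuples. -/
abbrev Coch (p : ℕ) : Type u := (Fin (p + 1) → ι) → W

/-- The cosimplicial module of all functions on tuples. -/
def cosimp : CosimplicialObject (ModuleCat.{u} R) where
  obj n := ModuleCat.of R (Coch ι W n.len)
  map f := ModuleCat.ofHom (LinearMap.funLeft R W fun i => i ∘ f.toOrderHom)
  map_id _ := rfl
  map_comp _ _ := rfl

/-- The differential. -/
def dd (p : ℕ) : Coch ι W p →ₗ[R] Coch ι W (p + 1) :=
  ∑ k : Fin (p + 2), (-1 : ℤ) ^ (k : ℕ) • LinearMap.funLeft R W (fun i => i ∘ k.succAbove)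

variable {R ι W}

lemma dd_apply (p : ℕ) (s : Coch ι W p) (i : Fin (p + 2) → ι) :
    dd R ι W p s i = ∑ k : Fin (p + 2), (-1 : ℤ) ^ (k : ℕ) • s (i ∘ k.succAbove) := by
  simp [dd, Finset.sum_apply, LinearMap.funLeft_apply]

lemma objD_apply (p : ℕ) (s : Coch ι W p) :
    AlternatingCofaceMapComplex.objD (cosimp R ι W) p s = dd R ι W p s := by
  funext i
  rw [dd_apply]
  let E : (ModuleCat.of R (Coch ι W p) ⟶ ModuleCat.of R (Coch ι W (p + 1))) →+ W :=
    { toFun := fun f => f.hom s i, map_zero' := rfl, map_add' := fun _ _ => rfl }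
  refine Eq.trans (map_sum E
    (fun k : Fin (p + 2) => (-1 : ℤ) ^ (k : ℕ) • (cosimp R ι W).δ (n := p) k) Finset.univ) ?_
  exact Finset.sum_congr rfl fun k _ => map_zsmul E _ _

lemma dd_dd (p : ℕ) (s : Coch ι W p) : dd R ι W (p + 1) (dd R ι W p s) = 0 := by
  rw [← objD_apply p s, ← objD_apply (p + 1)]
  exact ConcreteCategory.congr_hom (AlternatingCofaceMapComplex.d_squared (cosimp R ι W) p) s

lemma dd_zero_apply (s : Coch ι W 0) (a b : ι) :
    dd R ι W 0 s ![a, b] = s ![b] - s ![a] := by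
  rw [dd_apply, Fin.sum_univ_two]
  have h0 : ![a, b] ∘ Fin.succAbove (0 : Fin 2) = ![b] := by funext x; fin_cases x; rfl
  have h1 : ![a, b] ∘ Fin.succAbove (1 : Fin 2) = ![a] := by funext x; fin_cases x; rfl
  rw [h0, h1]
  simp [sub_eq_add_neg]

variable {W' : Type u} [AddCommGroup W'] [Module R W']

lemma dd_map (Φ : W →ₗ[R] W') (p : ℕ) (s : Coch ι W p) :
    dd R ι W' p (fun i => Φ (s i)) = fun i => Φ (dd R ι W p s i) := by
  funext i
  rw [dd_apply, dd_apply, map_sum]
  simp only [map_zsmul]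

/-- Cochains with values in a system of submodules. -/
def C (G : Set ι → Submodule R W) (p : ℕ) : Submodule R (Coch ι W p) :=
  Submodule.pi Set.univ fun i => G (Set.range i)

lemma mem_C {G : Set ι → Submodule R W} {p : ℕ} {s : Coch ι W p} :
    s ∈ C G p ↔ ∀ i, s i ∈ G (Set.range i) := by
  simp [C, Submodule.mem_pi]

lemma C_mono {G K : Set ι → Submodule R W} (h : ∀ I, K I ≤ G I) (p : ℕ) : C K p ≤ C G p :=
  fun _ hs => mem_C.2 fun i => h _ (mem_C.1 hs i)

lemma dd_mem {G : Set ι → Submodule R W} (hG : Monotone G) {p : ℕ} {s : Coch ι W p}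
    (hs : s ∈ C G p) : dd R ι W p s ∈ C G (p + 1) := by
  refine mem_C.2 fun i => ?_
  rw [dd_apply]
  exact Submodule.sum_mem _ fun k _ =>
    zsmul_mem (hG (Set.range_comp_subset_range _ _) (mem_C.1 hs _)) _

/-- Coboundaries. -/
def B (G : Set ι → Submodule R W) : ∀ p, Submodule R (Coch ι W p)
  | 0 => ⊥
  | p + 1 => (C G p).map (dd R ι W p)

lemma B_mono {G K : Set ι → Submodule R W} (h : ∀ I, K I ≤ G I) : ∀ p, B K p ≤ B G p
  | 0 => le_rfl
  | _ + 1 => Submodule.map_mono (C_mono h _)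

lemma B_le_C {G : Set ι → Submodule R W} (hG : Monotone G) : ∀ p, B G p ≤ C G p
  | 0 => bot_le
  | _ + 1 => Submodule.map_le_iff_le_comap.2 fun _ hs => dd_mem hG hs

/-- Cocycles. -/
def Z (G : Set ι → Submodule R W) (p : ℕ) : Submodule R (Coch ι W p) :=
  C G p ⊓ LinearMap.ker (dd R ι W p)

/-- Finiteness of the cohomology of a system. -/
def FinH (G : Set ι → Submodule R W) (p : ℕ) : Prop :=
  ∃ F : Submodule R (Coch ι W p), F.FG ∧ F ≤ C G p ∧ Z G p ≤ F ⊔ B G p

/-- Finiteness of the cohomology of a quotient system. -/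
def FinQ (G K : Set ι → Submodule R W) (p : ℕ) : Prop :=
  ∃ F : Submodule R (Coch ι W p), F.FG ∧ F ≤ C G p ∧
    C G p ⊓ (C K (p + 1)).comap (dd R ι W p) ≤ F ⊔ B G p ⊔ C K p

lemma exists_fg_lift {M N : Type u} [AddCommGroup M] [Module R M] [AddCommGroup N] [Module R N]
    (f : M →ₗ[R] N) (T : Submodule R M) {D : Submodule R N} (hD : D.FG) (hle : D ≤ T.map f) :
    ∃ E : Submodule R M, E.FG ∧ E ≤ T ∧ D ≤ E.map f := by
  classical
  obtain ⟨t, rfl⟩ := hD
  choose g hg using fun x : t => hle (Submodule.subset_span x.2)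
  refine ⟨Submodule.span R (Set.range g), Submodule.fg_span (Set.finite_range g),
    Submodule.span_le.2 ?_, Submodule.span_le.2 fun x hx => ?_⟩
  · rintro _ ⟨x, rfl⟩
    exact (hg x).1
  · exact ⟨g ⟨x, hx⟩, Submodule.subset_span ⟨_, rfl⟩, (hg ⟨x, hx⟩).2⟩

variable [IsNoetherianRing R]

theorem finQ_of_finH {G K : Set ι → Submodule R W} (hG : Monotone G) (hK : Monotone K)
    (hKG : ∀ I, K I ≤ G I) {p : ℕ} (h : FinH G p) (h' : FinH K (p + 1)) : FinQ G K p := by
  obtain ⟨F, hF, hFC, hZ⟩ := h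
  obtain ⟨F', hF', hFC', hZ'⟩ := h'
  let d := dd R ι W p
  haveI : IsNoetherian R F' := isNoetherian_of_fg_of_noetherian F' hF'
  have hD : (F' ⊓ (C G p).map d).FG := (isNoetherian_submodule.1 ‹_›) _ inf_le_left
  obtain ⟨E, hE, hEC, hDE⟩ := exists_fg_lift d (C G p) hD inf_le_right
  refine ⟨F ⊔ E, hF.sup hE, sup_le hFC hEC, ?_⟩
  rintro t ⟨htC, ht⟩
  have htZ : d t ∈ Z K (p + 1) := ⟨ht, dd_dd p t⟩
  obtain ⟨b, hb, e, he, hbe⟩ := Submodule.mem_sup.1 (hZ' htZ)
  obtain ⟨u, hu, rfl⟩ := he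
  have hu' : u ∈ C G p := C_mono hKG p hu
  have hbd : b = d (t - u) := by rw [map_sub, ← hbe]; exact (add_sub_cancel_right b _).symm
  obtain ⟨e, heE, heb⟩ := hDE ⟨hb, ⟨t - u, sub_mem htC hu', hbd.symm⟩⟩
  have hz : t - u - e ∈ Z G p :=
    ⟨sub_mem (sub_mem htC hu') (hEC heE), by
      show d (t - u - e) = 0
      rw [map_sub, ← hbd, heb, sub_self]⟩
  have : t = (t - u - e) + e + u := by abel
  rw [this]
  refine Submodule.add_mem _ (Submodule.add_mem _ ?_ ?_) (Submodule.mem_sup_right hu)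
  · exact Submodule.mem_sup_left (SetLike.le_def.1 (sup_le_sup_right le_sup_left (B G p)) (hZ hz))
  · exact Submodule.mem_sup_left (Submodule.mem_sup_left (Submodule.mem_sup_right heE))

/-- Finiteness for the image system. -/
theorem finH_map {G : Set ι → Submodule R W} (hG : Monotone G) (Φ : W →ₗ[R] W') {p : ℕ}
    (h : FinH G p) (h' : FinH (fun I => G I ⊓ LinearMap.ker Φ) (p + 1)) :
    FinH (fun I => (G I).map Φ) p := by
  let K : Set ι → Submodule R W := fun I => G I ⊓ LinearMap.ker Φ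
  have hK : Monotone K := fun _ _ hIJ => inf_le_inf_right _ (hG hIJ)
  obtain ⟨F, hF, hFC, hle⟩ := finQ_of_finH hG hK (fun _ => inf_le_left) h h'
  let Φ' := Φ.compLeft (Fin (p + 1) → ι)
  have hmap : ∀ q, (C G q).map (Φ.compLeft _) ≤ C (fun I => (G I).map Φ) q := by
    rintro q _ ⟨s, hs, rfl⟩
    exact mem_C.2 fun i => ⟨_, mem_C.1 hs i, rfl⟩
  refine ⟨F.map Φ', hF.map _, (Submodule.map_mono hFC).trans (hmap p), ?_⟩
  rintro s ⟨hs, hds⟩
  choose t ht hts using fun i => (mem_C.1 hs i)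
  have hts' : Φ' t = s := funext hts
  have htC : t ∈ C G p := mem_C.2 ht
  have hdt : dd R ι W p t ∈ C K (p + 1) := by
    refine mem_C.2 fun i => ⟨mem_C.1 (dd_mem hG htC) i, ?_⟩
    show Φ (dd R ι W p t i) = 0
    have := congrFun (dd_map (R := R) Φ p t) i
    rw [show (fun i => Φ (t i)) = s from hts'] at this
    rw [← this]
    exact congrFun hds i
  have := Submodule.mem_map_of_mem (f := Φ') (hle ⟨htC, hdt⟩)
  rw [hts', Submodule.map_sup, Submodule.map_sup] at this
  refine SetLike.le_def.1 (sup_le (sup_le le_sup_left ?_) ?_) this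
  · refine le_sup_of_le_right ?_
    cases p with
    | zero => simp [B]
    | succ p =>
      rintro _ ⟨_, ⟨u, hu, rfl⟩, rfl⟩
      exact ⟨fun i => Φ (u i), hmap p ⟨u, hu, rfl⟩, dd_map Φ p u⟩
  · rintro _ ⟨u, hu, rfl⟩
    rw [show Φ' u = 0 from funext fun i => (mem_C.1 hu i).2]
    exact Submodule.zero_mem _

omit [IsNoetherianRing R]

/-- A cocycle is a coboundary if the system is a cone. -/
theorem exists_dd_eq_of_cone {G : Set ι → Submodule R W} (j : ι)
    (hj : ∀ I, G (insert j I) ≤ G I) {p : ℕ} {s : Coch ι W (p + 1)} (hs : s ∈ Z G (p + 1)) :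
    s ∈ B G (p + 1) := by
  refine ⟨fun i => s (Fin.cons j i), mem_C.2 fun i => ?_, funext fun i => ?_⟩
  · refine hj _ ?_
    have := mem_C.1 hs.1 (Fin.cons j i)
    rwa [Fin.range_cons] at this
  · have h := congrFun hs.2 (Fin.cons j i)
    rw [dd_apply, Fin.sum_univ_succ] at h
    have h0 : (Fin.cons j i : Fin (p + 3) → ι) ∘ Fin.succAbove 0 = i := by
      funext a; simp
    have hk : ∀ k : Fin (p + 2), (Fin.cons j i : Fin (p + 3) → ι) ∘ k.succ.succAbove =
        Fin.cons j (i ∘ k.succAbove) := fun k => by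
      funext a
      induction a using Fin.cases <;> simp
    simp only [h0, hk, Fin.val_zero, pow_zero, one_smul, Fin.val_succ] at h
    show dd R ι W p (fun i => s (Fin.cons j i)) i = s i
    rw [dd_apply]
    have h' : s i + -∑ k : Fin (p + 2), (-1 : ℤ) ^ (k : ℕ) • s (Fin.cons j (i ∘ k.succAbove)) = 0 := by
      rw [← Finset.sum_neg_distrib]
      refine Eq.trans ?_ h
      congr 1
      refine Finset.sum_congr rfl fun k _ => ?_
      rw [pow_succ, mul_neg_one, neg_smul]
    exact (eq_of_sub_eq_zero (by rwa [← sub_eq_add_neg] at h')).symm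

/-- Extension of a cochain by zero along the inclusion of all but the last index. -/
def ext0 {m p : ℕ} {V : Type u} [AddCommGroup V] (t : Coch (ULift.{u} (Fin m)) V p) :
    Coch (ULift.{u} (Fin (m + 1))) V p := fun i =>
  if h : ∀ a, (i a).down ≠ Fin.last m then t fun a => ⟨(i a).down.castPred (h a)⟩ else 0

/-- The inclusion of all but the last index. -/
def incl (m : ℕ) (j : ULift.{u} (Fin m)) : ULift.{u} (Fin (m + 1)) := ⟨j.down.castSucc⟩

lemma ext0_incl {m p : ℕ} (t : Coch (ULift.{u} (Fin m)) W p) (i : Fin (p + 1) → ULift.{u} (Fin m)) :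
    ext0 t (incl m ∘ i) = t i := by
  unfold ext0
  rw [dif_pos (c := ∀ a, ((incl m ∘ i) a).down ≠ Fin.last m) (fun a => Fin.castSucc_ne_last (i a).down)]
  congr 1

lemma ext0_mem {m p : ℕ} {G : Set (ULift.{u} (Fin (m + 1))) → Submodule R W}
    {t : Coch (ULift.{u} (Fin m)) W p} (ht : t ∈ C (fun I => G (incl m '' I)) p) :
    ext0 t ∈ C G p := by
  refine mem_C.2 fun i => ?_
  unfold ext0
  split_ifs with h
  · have := mem_C.1 ht fun a => ⟨(i a).down.castPred (h a)⟩
    rw [← Set.range_comp] at this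
    convert this using 3
    funext a
    simp [incl]
  · exact Submodule.zero_mem _

lemma dd_incl {m p : ℕ} (s : Coch (ULift.{u} (Fin (m + 1))) W p)
    (i : Fin (p + 2) → ULift.{u} (Fin m)) :
    dd R (ULift.{u} (Fin m)) W p (fun i => s (incl m ∘ i)) i =
      dd R (ULift.{u} (Fin (m + 1))) W p s (incl m ∘ i) := by
  rw [dd_apply, dd_apply]
  rfl

/-- Cohomology of a system vanishes from the number of indices on. -/
theorem mem_B_of_card_le (m : ℕ) : ∀ (G : Set (ULift.{u} (Fin (m + 1))) → Submodule R W),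
    Monotone G → ∀ p, m ≤ p → ∀ s ∈ Z G (p + 1), s ∈ B G (p + 1) := by
  induction m with
  | zero =>
    intro G hG p _ s hs
    have : ∀ i : Fin (p + 2) → ULift.{u} (Fin 1), i = fun _ => ⟨0⟩ := fun i =>
      funext fun a => ULift.ext _ _ (Subsingleton.elim (α := Fin 1) _ _)
    refine ⟨fun _ => s (fun _ => ⟨0⟩), mem_C.2 fun i => ?_, funext fun i => ?_⟩
    · refine hG ?_ (mem_C.1 hs.1 _)
      rintro _ ⟨a, rfl⟩
      exact ⟨0, ULift.ext _ _ (Subsingleton.elim (α := Fin 1) _ _)⟩
    · have h := congrFun hs.2 (fun _ => ⟨0⟩)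
      rw [dd_apply, Fin.sum_univ_succ] at h
      rw [dd_apply, this i]
      simp only [Function.comp_def, Fin.val_zero, pow_zero, one_smul, Fin.val_succ, pow_succ,
        mul_neg_one, neg_smul, Finset.sum_neg_distrib, Pi.zero_apply] at h ⊢
      exact (eq_of_sub_eq_zero (by rwa [← sub_eq_add_neg] at h)).symm
  | succ m ih =>
    intro G hG p hp s hs
    let last : ULift.{u} (Fin (m + 1 + 1)) := ⟨Fin.last (m + 1)⟩
    let G₀ : Set (ULift.{u} (Fin (m + 1))) → Submodule R W := fun I => G (incl (m + 1) '' I)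
    have hG₀ : Monotone G₀ := fun I J h => hG (Set.image_mono h)
    have hr : (fun i => s (incl (m + 1) ∘ i)) ∈ Z G₀ (p + 1) := by
      refine ⟨mem_C.2 fun i => ?_, funext fun i => ?_⟩
      · have := mem_C.1 hs.1 (incl (m + 1) ∘ i)
        rwa [Set.range_comp] at this
      · rw [dd_incl]
        exact congrFun hs.2 _
    obtain ⟨t, ht, htd⟩ := ih G₀ hG₀ p (by omega) _ hr
    let t' := ext0 t
    have ht' : t' ∈ C G p := ext0_mem ht
    let s' := s - dd R _ W p t'
    have hs' : s' ∈ Z G (p + 1) :=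
      ⟨sub_mem hs.1 (dd_mem hG ht'), by
        show dd R _ W (p + 1) (s - dd R _ W p t') = 0
        rw [map_sub, dd_dd, show dd R _ W (p + 1) s = 0 from hs.2, sub_zero]⟩
    have hs'0 : ∀ i : Fin (p + 2) → ULift.{u} (Fin (m + 1)), s' (incl (m + 1) ∘ i) = 0 := fun i => by
      show s _ - dd R _ W p t' _ = 0
      rw [← dd_incl, sub_eq_zero]
      simp only [t', ext0_incl]
      exact (congrFun htd i).symm
    suffices h : s' ∈ B G (p + 1) by
      have := Submodule.add_mem _ h (Submodule.mem_map_of_mem (f := dd R _ W p) ht')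
      simpa [s', B] using this
    -- the cone system
    let G' : Set (ULift.{u} (Fin (m + 1 + 1))) → Submodule R W := fun I => G (insert last I)
    have hG' : Monotone G' := fun I J h => hG (Set.insert_subset_insert h)
    obtain ⟨u, hu, hud⟩ := exists_dd_eq_of_cone (G := G') last
      (fun I => le_of_eq (by show G _ = G _; rw [Set.insert_idem]))
      (s := s') ⟨mem_C.2 fun i => hG (Set.subset_insert _ _) (mem_C.1 hs'.1 i), hs'.2⟩
    obtain ⟨q, rfl⟩ : ∃ q, p = q + 1 := ⟨p - 1, by omega⟩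
    let G₀' : Set (ULift.{u} (Fin (m + 1))) → Submodule R W := fun I => G' (incl (m + 1) '' I)
    have hru : (fun i => u (incl (m + 1) ∘ i)) ∈ Z G₀' (q + 1) := by
      refine ⟨mem_C.2 fun i => ?_, funext fun i => ?_⟩
      · have := mem_C.1 hu (incl (m + 1) ∘ i)
        rwa [Set.range_comp] at this
      · rw [dd_incl, hud]
        exact hs'0 i
    obtain ⟨w, hw, hwd⟩ := ih G₀' (fun I J h => hG' (Set.image_mono h)) q (by omega) _ hru
    let w' := ext0 w
    have hw' : w' ∈ C G' q := ext0_mem hw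
    refine ⟨u - dd R _ W q w', mem_C.2 fun i => ?_, ?_⟩
    · by_cases hi : ∀ a, (i a).down ≠ Fin.last (m + 1)
      · let i₀ : Fin (q + 2) → ULift.{u} (Fin (m + 1)) := fun a => ⟨(i a).down.castPred (hi a)⟩
        have hi₀ : i = incl (m + 1) ∘ i₀ := funext fun a => by simp [incl, i₀]
        rw [hi₀]
        show u _ - dd R _ W q w' _ ∈ _
        rw [← dd_incl]
        simp only [w', ext0_incl]
        rw [show dd R _ W q w i₀ = u (incl (m + 1) ∘ i₀) from congrFun hwd i₀, sub_self]
        exact Submodule.zero_mem _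
      · push Not at hi
        obtain ⟨a, ha⟩ := hi
        have hmem : (u - dd R _ W q w') i ∈ G' (Set.range i) :=
          mem_C.1 (sub_mem hu (dd_mem hG' hw')) i
        rwa [show G' (Set.range i) = G (Set.range i) from
          congrArg G (Set.insert_eq_of_mem ⟨a, ULift.ext _ _ ha⟩)] at hmem
    · rw [map_sub, dd_dd, sub_zero, hud]

end Groth.Agent.CechSys
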