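import Groth.Agent.CechSys.Basic
import Mathlib.RingTheory.MvPolynomial.Basic
import Mathlib.RingTheory.Polynomial.Basic
import Mathlib.LinearAlgebra.Finsupp.Supported
import Mathlib.LinearAlgebra.Finsupp.LinearCombination
import Mathlib.RingTheory.Finiteness.Finsupp
import Mathlib.Data.Int.Interval

/-!
# Cech cohomology of free graded modules over a polynomial ring, and of their homogeneous maps
-/

noncomputable section

universe u

open Finset

namespace Groth.Agent.CechSys

variable {R : Type u} [CommRing R] {n : ℕ} {r r' : ℕ}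

/-- Exponents of Laurent monomials. -/
abbrev Expo (n : ℕ) : Type := Fin (n + 1) → ℤ

/-- The index type of the cover. -/
abbrev Idx (n : ℕ) : Type u := ULift.{u} (Fin (n + 1))

/-- Laurent monomials in `r` components. -/
abbrev Mon (n r : ℕ) : Type u := ULift.{u} (Fin r × Expo n)

/-- Free modules over Laurent polynomials. -/
abbrev LW (R : Type u) [CommRing R] (n r : ℕ) : Type u := Mon.{u} n r →₀ R

/-- A monomial. -/
abbrev mk (k : Fin r) (a : Expo n) : Mon.{u} n r := ⟨(k, a)⟩

/-- Negative places of an exponent. -/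
def neg (a : Expo n) : Set (Idx.{u} n) := {j | a j.down < 0}

/-- The degree of a monomial. -/
def deg (d : Fin r → ℤ) (x : Mon.{u} n r) : ℤ := (∑ j, x.down.2 j) + d x.down.1

lemma neg_eq_empty_iff {a : Expo n} : neg.{u} a = ∅ ↔ ∀ j, 0 ≤ a j := by
  simp only [Set.eq_empty_iff_forall_notMem, neg, Set.mem_setOf_eq, not_lt]
  exact ⟨fun h j => h ⟨j⟩, fun h j => h j.down⟩

variable (R) in
/-- The degree `e` part of the localisations of a free graded module. -/
def Free (d : Fin r → ℤ) (e : ℤ) (I : Set (Idx.{u} n)) : Submodule R (LW R n r) :=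
  Finsupp.supported R R {x | neg x.down.2 ⊆ I ∧ deg d x = e}

lemma mem_Free {d : Fin r → ℤ} {e : ℤ} {I : Set (Idx.{u} n)} {v : LW R n r} :
    v ∈ Free R d e I ↔ ∀ x ∈ v.support, neg x.down.2 ⊆ I ∧ deg d x = e := by
  simp only [Free, Finsupp.mem_supported, Set.subset_def, SetLike.mem_coe, Set.mem_setOf_eq]

lemma Free_mono (d : Fin r → ℤ) (e : ℤ) : Monotone (Free R d e : Set (Idx.{u} n) → _) :=
  fun _ _ h => Finsupp.supported_mono fun _ hx => ⟨hx.1.trans h, hx.2⟩

variable (R) in
/-- Multiplication by a Laurent monomial. -/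
def shift (c : Expo n) : LW R n r →ₗ[R] LW R n r :=
  Finsupp.lmapDomain R R fun x : Mon.{u} n r => mk x.down.1 (x.down.2 + c)

@[simp] lemma shift_single (c : Expo n) (k : Fin r) (a : Expo n) (z : R) :
    shift R c (Finsupp.single (mk k a : Mon.{u} n r) z) = Finsupp.single (mk k (a + c)) z := by
  simp [shift]

lemma shift_shift (c c' : Expo n) (v : LW R n r) :
    shift R c (shift R c' v) = shift R (c' + c) v := by
  induction v using Finsupp.induction_linear with
  | zero => simp
  | add a b ha hb => simp only [map_add, ha, hb]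
  | single x z => obtain ⟨⟨k, a⟩⟩ := x; simp [add_assoc]

@[simp] lemma shift_zero (v : LW R n r) : shift R (0 : Expo n) v = v := by
  induction v using Finsupp.induction_linear with
  | zero => simp
  | add a b ha hb => simp only [map_add, ha, hb]
  | single x z => obtain ⟨⟨k, a⟩⟩ := x; simp

lemma mem_support_shift {c : Expo n} {v : LW R n r} {x : Mon.{u} n r}
    (hx : x ∈ (shift R c v).support) :
    ∃ y ∈ v.support, x = mk y.down.1 (y.down.2 + c) := by
  classical
  obtain ⟨y, hy, rfl⟩ := Finset.mem_image.1 (Finsupp.mapDomain_support hx)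
  exact ⟨y, hy, rfl⟩

lemma shift_mem {d : Fin r → ℤ} {e : ℤ} {I J : Set (Idx.{u} n)} (c : Expo n) (hI : I ⊆ J)
    (hc : neg c ⊆ J) {v : LW R n r} (hv : v ∈ Free R d e I) :
    shift R c v ∈ Free R d (e + ∑ j, c j) J := by
  refine mem_Free.2 fun x hx => ?_
  obtain ⟨y, hy, rfl⟩ := mem_support_shift hx
  obtain ⟨h1, h2⟩ := mem_Free.1 hv y hy
  refine ⟨fun j hj => ?_, ?_⟩
  · by_contra hJ
    have h3 : ¬ y.down.2 j.down < 0 := fun h => hJ (hI (h1 h))
    have h4 : ¬ c j.down < 0 := fun h => hJ (hc h)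
    simp only [neg, Set.mem_setOf_eq, Pi.add_apply] at hj
    omega
  · rw [← h2]
    simp only [deg, Pi.add_apply, Finset.sum_add_distrib]
    ring

variable (R) in
/-- The part of degree `e`. -/
def degPart (d : Fin r → ℤ) (e : ℤ) : LW R n r →ₗ[R] LW R n r where
  toFun v := v.filter fun x => deg d x = e
  map_add' _ _ := Finsupp.filter_add
  map_smul' _ _ := Finsupp.filter_smul

lemma degPart_eq_self {d : Fin r → ℤ} {e : ℤ} {I : Set (Idx.{u} n)} {v : LW R n r}
    (hv : v ∈ Free R d e I) : degPart R d e v = v :=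
  Finsupp.filter_eq_self_iff _ _ |>.2 fun x hx => (mem_Free.1 hv x (Finsupp.mem_support_iff.2 hx)).2

lemma degPart_eq_zero {d : Fin r → ℤ} {e e' : ℤ} (h : e' ≠ e) {I : Set (Idx.{u} n)} {v : LW R n r}
    (hv : v ∈ Free R d e' I) : degPart R d e v = 0 := by
  refine Finsupp.filter_eq_zero_iff _ _ |>.2 fun x hx => ?_
  by_contra hne
  exact h ((mem_Free.1 hv x (Finsupp.mem_support_iff.2 hne)).2.symm.trans hx)

lemma degPart_mem {d : Fin r → ℤ} (e : ℤ) {I : Set (Idx.{u} n)} {v : LW R n r}
    (hv : ∀ x ∈ v.support, neg x.down.2 ⊆ I) : degPart R d e v ∈ Free R d e I := by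
  classical
  refine mem_Free.2 fun x hx => ?_
  have hx' : x ∈ v.support ∧ deg d x = e := by
    simpa [degPart, Finsupp.support_filter] using hx
  exact ⟨hv x hx'.1, hx'.2⟩

lemma eq_sum_degPart (d : Fin r → ℤ) (v : LW R n r) :
    v = ∑ e ∈ v.support.image (deg d), degPart R d e v := by
  classical
  ext x
  rw [Finsupp.finsetSum_apply]
  simp only [degPart, LinearMap.coe_mk, AddHom.coe_mk, Finsupp.filter_apply, Finset.sum_ite_eq,
    Finset.mem_image]
  split_ifs with h
  · rfl
  · by_contra hne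
    exact h ⟨x, Finsupp.mem_support_iff.2 hne, rfl⟩

variable (R) in
/-- Homogeneous maps of degree zero of free graded modules. -/
structure Hom (n : ℕ) {r' r : ℕ} (d' : Fin r' → ℤ) (d : Fin r → ℤ) where
  f : LW R n r' →ₗ[R] LW R n r
  comm : ∀ c v, f (shift R c v) = shift R c (f v)
  mem : ∀ (k : Fin r') (a : Expo n), (∀ j, 0 ≤ a j) →
    f (Finsupp.single (mk k a : Mon.{u} n r') 1) ∈ Free R d ((∑ j, a j) + d' k) ∅

namespace Hom

variable {d' : Fin r' → ℤ} {d : Fin r → ℤ} (Φ : Hom R n d' d)

lemma single_mem (x : Mon.{u} n r') :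
    Φ.f (Finsupp.single x 1) ∈ Free R d (deg d' x) (neg x.down.2) := by
  obtain ⟨⟨k, a⟩⟩ := x
  let c : Expo n := fun j => min (a j) 0
  have ha : ∀ j, 0 ≤ (a - c) j := fun j => by simp only [c, Pi.sub_apply]; omega
  have h := shift_mem (J := neg a) c (Set.empty_subset _)
    (fun j (hj : c j.down < 0) => show a j.down < 0 by simp only [c] at hj; omega) (Φ.mem k _ ha)
  rw [← Φ.comm, shift_single, sub_add_cancel] at h
  convert h using 2
  simp only [deg, Pi.sub_apply, Finset.sum_sub_distrib]
  ring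

lemma map_mem {e : ℤ} {I : Set (Idx.{u} n)} {v : LW R n r'} (hv : v ∈ Free R d' e I) :
    Φ.f v ∈ Free R d e I := by
  rw [← Finsupp.sum_single v, Finsupp.sum, map_sum]
  refine Submodule.sum_mem _ fun x hx => ?_
  rw [show Finsupp.single x (v x) = v x • Finsupp.single x (1 : R) by simp, map_smul]
  refine Submodule.smul_mem _ _ ?_
  obtain ⟨h1, h2⟩ := mem_Free.1 hv x hx
  exact Free_mono d e h1 (h2 ▸ Φ.single_mem x)

lemma degPart_comm (e : ℤ) (v : LW R n r') : degPart R d e (Φ.f v) = Φ.f (degPart R d' e v) := by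
  induction v using Finsupp.induction_linear with
  | zero => simp
  | add a b ha hb => simp only [map_add, ha, hb]
  | single x z =>
    have hs : Finsupp.single x (1 : R) ∈ Free R d' (deg d' x) (neg x.down.2) :=
      Finsupp.single_mem_supported R 1 ⟨subset_rfl, rfl⟩
    rw [show Finsupp.single x z = z • Finsupp.single x (1 : R) by simp]
    simp only [map_smul]
    rcases eq_or_ne (deg d' x) e with h | h
    · rw [← h, degPart_eq_self hs, degPart_eq_self (Φ.map_mem hs)]
    · rw [degPart_eq_zero h hs, degPart_eq_zero h (Φ.map_mem hs), map_zero]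

/-- The image system of a homogeneous map. -/
def img (e : ℤ) (I : Set (Idx.{u} n)) : Submodule R (LW R n r) := (Free R d' e I).map Φ.f

lemma img_mono (e : ℤ) : Monotone (Φ.img e) := fun _ _ h => Submodule.map_mono (Free_mono d' e h)

lemma img_le (e : ℤ) (I : Set (Idx.{u} n)) : Φ.img e I ≤ Free R d e I :=
  Submodule.map_le_iff_le_comap.2 fun _ hv => Φ.map_mem hv

end Hom

/-- Monomials of degree `e` which are nowhere or everywhere negative. -/
def extreme (d : Fin r → ℤ) (e : ℤ) : Set (Mon.{u} n r) :=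
  {x | deg d x = e ∧ ((∀ j, 0 ≤ x.down.2 j) ∨ ∀ j, x.down.2 j < 0)}

lemma finite_extreme (d : Fin r → ℤ) (e : ℤ) : (extreme d e : Set (Mon.{u} n r)).Finite := by
  let b : Fin r → ℤ := fun k => |e - d k|
  let S : Set (Fin r × Expo n) :=
    ⋃ k : Fin r, ({k} : Set (Fin r)) ×ˢ Set.pi Set.univ fun _ => Set.Icc (-b k) (b k)
  have hS : S.Finite := Set.finite_iUnion fun k =>
    (Set.finite_singleton k).prod (Set.Finite.pi fun _ => Set.finite_Icc _ _)
  refine (hS.image ULift.up).subset ?_
  rintro ⟨⟨k, a⟩⟩ ⟨hd, ha⟩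
  refine ⟨(k, a), Set.mem_iUnion.2 ⟨k, rfl, fun j _ => ?_⟩, rfl⟩
  have hb : b k = |∑ j, a j| := by
    simp only [b, ← hd, deg, add_sub_cancel_right]
  rw [Set.mem_Icc, hb]
  show -|∑ j, a j| ≤ a j ∧ a j ≤ |∑ j, a j|
  rcases ha with h | h
  · change ∀ j, 0 ≤ a j at h
    have h1 : a j ≤ ∑ j, a j := Finset.single_le_sum (fun i _ => h i) (Finset.mem_univ j)
    have h2 := le_abs_self (∑ j, a j)
    have h5 := abs_nonneg (∑ j, a j)
    have h3 := h j
    constructor <;> omega
  · change ∀ j, a j < 0 at h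
    have h1 : -a j ≤ ∑ i, -a i :=
      Finset.single_le_sum (f := fun i => -a i) (fun i _ => by linarith [h i]) (Finset.mem_univ j)
    rw [Finset.sum_neg_distrib] at h1
    have h2 := neg_abs_le (∑ j, a j)
    have h3 := h j
    have h4 := le_abs_self (∑ j, a j)
    have h5 := abs_nonneg (∑ j, a j)
    constructor <;> omega

/-- The part supported in a set of monomials. -/
def filterMap (S : Set (Mon.{u} n r)) : LW R n r →ₗ[R] LW R n r := by
  classical
  exact
    { toFun := fun v => v.filter fun x => x ∈ S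
      map_add' := fun _ _ => Finsupp.filter_add
      map_smul' := fun _ _ => Finsupp.filter_smul }

lemma filterMap_apply (S : Set (Mon.{u} n r)) [DecidablePred (· ∈ S)] (v : LW R n r)
    (x : Mon.{u} n r) : filterMap (R := R) S v x = if x ∈ S then v x else 0 := by
  classical
  simp [filterMap, Finsupp.filter_apply]

lemma filter_mem_Z {d : Fin r → ℤ} {e : ℤ} {p : ℕ} {s : Coch (Idx.{u} n) (LW R n r) p}
    (hs : s ∈ Z (Free R d e) p) (S : Set (Mon.{u} n r)) :
    (fun i => filterMap S (s i)) ∈
      Z (fun I => Free R d e I ⊓ Finsupp.supported R R S) p := by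
  classical
  refine ⟨mem_C.2 fun i => ?_, ?_⟩
  · refine ⟨mem_Free.2 fun x hx => ?_, (Finsupp.mem_supported _ _).2 fun x hx => ?_⟩
    all_goals
      simp only [Finset.mem_coe, Finsupp.mem_support_iff, filterMap_apply] at hx
    · split_ifs at hx with h
      · exact mem_Free.1 (mem_C.1 hs.1 i) x (Finsupp.mem_support_iff.2 hx)
      · exact absurd rfl hx
    · split_ifs at hx with h
      · exact h
      · exact absurd rfl hx
  · show dd R _ _ p (fun i => filterMap S (s i)) = 0
    rw [dd_map]
    funext i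
    show filterMap S (dd R _ _ p s i) = 0
    rw [show dd R _ _ p s = 0 from hs.2, Pi.zero_apply, map_zero]

/-- In positive degree only the everywhere negative monomials contribute. -/
theorem exists_sub_mem_B {d : Fin r → ℤ} {e : ℤ} {p : ℕ}
    {s : Coch (Idx.{u} n) (LW R n r) (p + 1)} (hs : s ∈ Z (Free R d e) (p + 1)) :
    (fun i => s i - filterMap {x | ∀ j, x.down.2 j < 0} (s i)) ∈ B (Free R d e) (p + 1) := by
  classical
  let jx : Mon.{u} n r → Fin (n + 1) := fun x => if h : ∃ j, 0 ≤ x.down.2 j then h.choose else 0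
  let S : Fin (n + 1) → Set (Mon.{u} n r) := fun j => {x | (∃ i, 0 ≤ x.down.2 i) ∧ jx x = j}
  have key : ∀ j, (fun i => filterMap (S j) (s i)) ∈ B (Free R d e) (p + 1) := by
    intro j
    refine B_mono (fun I => inf_le_left) _ (exists_dd_eq_of_cone
      (G := fun I => Free R d e I ⊓ Finsupp.supported R R (S j)) (⟨j⟩ : Idx.{u} n) ?_ (filter_mem_Z hs (S j)))
    rintro I v ⟨hv, hv'⟩
    refine ⟨mem_Free.2 fun x hx => ⟨fun i hi => ?_, (mem_Free.1 hv x hx).2⟩, hv'⟩
    rcases (mem_Free.1 hv x hx).1 hi with rfl | h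
    · obtain ⟨hex, hj⟩ := (Finsupp.mem_supported _ _).1 hv' hx
      have : 0 ≤ x.down.2 (jx x) := by
        simp only [jx, dif_pos hex]
        exact hex.choose_spec
      rw [hj] at this
      exact absurd hi (not_lt.2 this)
    · exact h
  convert Submodule.sum_mem _ (fun j (_ : j ∈ Finset.univ) => key j) using 1
  funext i
  ext x
  rw [Finset.sum_apply, Finsupp.finsetSum_apply, Finsupp.sub_apply, filterMap_apply]
  simp only [filterMap_apply, Set.mem_setOf_eq]
  by_cases hx : ∀ j, x.down.2 j < 0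
  · rw [if_pos hx, sub_self]
    refine (Finset.sum_eq_zero fun j _ => if_neg ?_).symm
    rintro ⟨⟨i, hi⟩, -⟩
    exact absurd (hx i) (not_lt.2 hi)
  · rw [if_neg hx, sub_zero]
    push Not at hx
    rw [Finset.sum_eq_single (jx x)]
    · exact (if_pos ⟨hx, rfl⟩).symm
    · exact fun j _ hj => if_neg fun h => hj h.2.symm
    · simp

/-- In degree zero only the monomials with nonnegative exponents contribute. -/
theorem nonneg_of_mem_Z_zero {d : Fin r → ℤ} {e : ℤ} (hn : 1 ≤ n)
    {s : Coch (Idx.{u} n) (LW R n r) 0} (hs : s ∈ Z (Free R d e) 0) (i : Fin 1 → Idx.{u} n)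
    (x : Mon.{u} n r) (hx : x ∈ (s i).support) (j : Fin (n + 1)) : 0 ≤ x.down.2 j := by
  by_contra hneg
  obtain ⟨j', hj'⟩ : ∃ j' : Fin (n + 1), j' ≠ j := by
    rcases eq_or_ne j 0 with rfl | h
    · exact ⟨⟨1, by omega⟩, by simp [Fin.ext_iff]⟩
    · exact ⟨0, Ne.symm h⟩
  have h := congrFun hs.2 ![i 0, ⟨j'⟩]
  rw [dd_zero_apply, Pi.zero_apply, sub_eq_zero] at h
  have hi : ![i 0] = i := by funext a; fin_cases a; rfl
  rw [hi] at h
  rw [← h] at hx
  have h2 := (mem_Free.1 (mem_C.1 hs.1 ![(⟨j'⟩ : Idx.{u} n)]) x hx).1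
    (show (⟨j⟩ : Idx.{u} n) ∈ neg x.down.2 from lt_of_not_ge hneg)
  obtain ⟨a, ha⟩ := h2
  fin_cases a
  exact hj' (congrArg ULift.down ha)

variable [IsNoetherianRing R]

/-- Finiteness for free modules. -/
theorem finH_free (d : Fin r → ℤ) (e : ℤ) (p : ℕ) :
    FinH (Free R d e : Set (Idx.{u} n) → _) p := by
  classical
  let T : Set (Mon.{u} n r) := extreme d e
  haveI : Finite T := finite_extreme d e
  haveI hfin : Module.Finite R (Finsupp.supported R R T) :=
    Module.Finite.equiv (Finsupp.supportedEquivFinsupp T).symm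
  let F : Submodule R (Coch (Idx.{u} n) (LW R n r) p) :=
    C (fun _ => Finsupp.supported R R T) p ⊓ C (Free R d e) p
  have hF0 : (C (fun _ : Set (Idx.{u} n) => Finsupp.supported R R T) p).FG :=
    Submodule.fg_pi fun _ => Module.Finite.iff_fg.1 hfin
  haveI : IsNoetherian R (C (fun _ : Set (Idx.{u} n) => Finsupp.supported R R T) p) :=
    isNoetherian_of_fg_of_noetherian _ hF0
  refine ⟨F, (isNoetherian_submodule.1 ‹_›) _ inf_le_left, inf_le_right, fun s hs => ?_⟩
  have hmem : ∀ t ∈ C (Free R d e) p, (∀ i, ∀ x ∈ (t i).support, (∀ j, 0 ≤ x.down.2 j) ∨ ∀ j, x.down.2 j < 0) →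
      t ∈ F := fun t ht h =>
    ⟨mem_C.2 fun i => (Finsupp.mem_supported _ _).2 fun x hx => ⟨(mem_Free.1 (mem_C.1 ht i) x hx).2, h i x hx⟩, ht⟩
  cases p with
  | zero =>
    refine Submodule.mem_sup_left (hmem s hs.1 fun i x hx => ?_)
    rcases Nat.eq_zero_or_pos n with rfl | hn
    · rcases lt_or_ge (x.down.2 0) 0 with h | h
      · exact Or.inr fun j => by fin_cases j; exact h
      · exact Or.inl fun j => by fin_cases j; exact h
    · exact Or.inl fun j => nonneg_of_mem_Z_zero hn hs i x hx j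
  | succ p =>
    let S : Set (Mon.{u} n r) := {x | ∀ j, x.down.2 j < 0}
    have h1 := exists_sub_mem_B hs
    have h2 : (fun i => filterMap S (s i)) ∈ F := by
      refine hmem _ (C_mono (fun _ => inf_le_left) _ (filter_mem_Z hs S).1) fun i x hx => Or.inr ?_
      rw [Finsupp.mem_support_iff, filterMap_apply] at hx
      by_contra h
      exact hx (if_neg h)
    have : s = (fun i => filterMap S (s i)) + fun i => s i - filterMap S (s i) := by
      funext i; simp
    rw [this]
    exact Submodule.add_mem_sup h2 h1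

/-- Nonnegative exponent vectors. -/
def castExp (m : Fin (n + 1) →₀ ℕ) : Expo n := fun j => (m j : ℤ)

variable (R n r) in
/-- The inclusion of a free module over the polynomial ring. -/
def emb : (Fin r → MvPolynomial (Fin (n + 1)) R) →ₗ[R] LW R n r :=
  ∑ k, ((MvPolynomial.basisMonomials (Fin (n + 1)) R).constr R
    fun m => Finsupp.single (mk k (castExp m) : Mon.{u} n r) (1 : R)).comp (LinearMap.proj k)

omit [IsNoetherianRing R] in
lemma emb_single (k : Fin r) (m : Fin (n + 1) →₀ ℕ) (z : R) :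
    emb R n r (Pi.single k (MvPolynomial.monomial m z)) =
      Finsupp.single (mk k (castExp m) : Mon.{u} n r) z := by
  classical
  simp only [emb, LinearMap.sum_apply, LinearMap.comp_apply, LinearMap.proj_apply]
  rw [Finset.sum_eq_single k]
  · rw [Pi.single_eq_same, show MvPolynomial.monomial m z = z • MvPolynomial.basisMonomials _ R m by
      simp [MvPolynomial.smul_monomial], map_smul, Module.Basis.constr_basis]
    simp
  · intro j _ hj
    rw [Pi.single_eq_of_ne hj, map_zero]
  · simp

omit [IsNoetherianRing R] in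
lemma emb_smul (m : Fin (n + 1) →₀ ℕ) (z : R) (q : Fin r → MvPolynomial (Fin (n + 1)) R) :
    emb R n r (MvPolynomial.monomial m z • q) = z • shift R (castExp m) (emb R n r q) := by
  classical
  rw [← Finset.univ_sum_single q]
  simp only [Finset.smul_sum, map_sum]
  refine Finset.sum_congr rfl fun k _ => ?_
  induction q k using MvPolynomial.induction_on' with
  | monomial m' z' =>
    rw [← Pi.single_smul, smul_eq_mul, MvPolynomial.monomial_mul, emb_single, emb_single,
      shift_single, Finsupp.smul_single, smul_eq_mul]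
    have hc : (castExp (m + m') : Expo n) = castExp m' + castExp m := by
      funext j; simp [castExp]; ring
    rw [hc]
  | add a b ha hb =>
    rw [Pi.single_add, smul_add, map_add, map_add, map_add, smul_add, ha, hb]

omit [IsNoetherianRing R] in
lemma exists_emb_eq {v : LW R n r} (hv : ∀ x ∈ v.support, ∀ j, 0 ≤ x.down.2 j) :
    ∃ q, emb R n r q = v := by
  classical
  refine ⟨∑ x ∈ v.support, Pi.single x.down.1
    (MvPolynomial.monomial (Finsupp.equivFunOnFinite.symm fun j => (x.down.2 j).toNat) (v x)), ?_⟩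
  rw [map_sum]
  conv_rhs => rw [← Finsupp.sum_single v, Finsupp.sum]
  refine Finset.sum_congr rfl fun x hx => ?_
  rw [emb_single]
  congr 1
  obtain ⟨⟨k, a⟩⟩ := x
  refine congrArg (mk k) (funext fun j => ?_)
  simp [castExp, hv _ hx j]

/-- Homogeneous generators of a shift-stable graded submodule of nonnegative monomials. -/
theorem exists_hom_of_stable (d : Fin r → ℤ) (P : Submodule R (LW R n r))
    (hshift : ∀ (c : Expo n), (∀ j, 0 ≤ c j) → ∀ v ∈ P, shift R c v ∈ P)
    (hdeg : ∀ e, ∀ v ∈ P, degPart R d e v ∈ P)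
    (hpos : ∀ v ∈ P, ∀ x ∈ v.support, ∀ j, 0 ≤ x.down.2 j) :
    ∃ (r' : ℕ) (d' : Fin r' → ℤ) (Ψ : Hom R n d' d), ∀ (e : ℤ) (I : Set (Idx.{u} n)) (v : LW R n r),
      v ∈ Ψ.img e I ↔ v ∈ Free R d e I ∧
        ∃ c : Expo n, (∀ j, 0 ≤ c j) ∧ (∀ j : Idx.{u} n, j ∉ I → c j.down = 0) ∧ shift R c v ∈ P := by
  classical
  have hsmul : ∀ (a : MvPolynomial (Fin (n + 1)) R) (q : Fin r → MvPolynomial (Fin (n + 1)) R),
      emb R n r q ∈ P → emb R n r (a • q) ∈ P := by
    intro a q hq
    induction a using MvPolynomial.induction_on' with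
    | monomial m z =>
      rw [emb_smul]
      exact Submodule.smul_mem _ _ (hshift _ (fun j => Int.natCast_nonneg _) _ hq)
    | add a b ha hb => rw [add_smul, map_add]; exact Submodule.add_mem _ ha hb
  let N : Submodule (MvPolynomial (Fin (n + 1)) R) (Fin r → MvPolynomial (Fin (n + 1)) R) :=
    { carrier := {q | emb R n r q ∈ P}
      add_mem' := fun {a b} ha hb => show emb R n r (a + b) ∈ P by
        rw [map_add]; exact Submodule.add_mem _ ha hb
      zero_mem' := show emb R n r 0 ∈ P by rw [map_zero]; exact P.zero_mem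
      smul_mem' := hsmul }
  obtain ⟨g, hg⟩ := IsNoetherian.noetherian N
  let T : Finset ((Fin r → MvPolynomial (Fin (n + 1)) R) × ℤ) :=
    g.biUnion fun q => ((emb R n r q).support.image (deg d)).image fun e => (q, e)
  let e₀ := T.equivFin.symm
  let gen : Fin T.card → LW R n r := fun k => degPart R d (e₀ k).1.2 (emb R n r (e₀ k).1.1)
  have hgP : ∀ k, gen k ∈ P := fun k => by
    refine hdeg _ _ ?_
    obtain ⟨q, hq, hq'⟩ := Finset.mem_biUnion.1 (e₀ k).2
    obtain ⟨e', -, he'⟩ := Finset.mem_image.1 hq'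
    rw [← he']
    have : q ∈ N := hg ▸ Submodule.subset_span hq
    exact this
  have hgen : ∀ k, gen k ∈ Free R d (e₀ k).1.2 ∅ := fun k => by
    refine mem_Free.2 fun x hx => ⟨?_, ?_⟩
    · rw [neg_eq_empty_iff.2 (hpos _ (hgP k) x hx)]
    · simp only [gen, degPart, LinearMap.coe_mk, AddHom.coe_mk, Finsupp.support_filter,
        Finset.mem_filter] at hx
      exact hx.2
  let f : LW R n T.card →ₗ[R] LW R n r :=
    Finsupp.linearCombination R fun x : Mon.{u} n T.card => shift R x.down.2 (gen x.down.1)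
  have hf : ∀ k a z, f (Finsupp.single (mk k a) z) = z • shift R a (gen k) := fun k a z => by
    simp [f, Finsupp.linearCombination_single]
  let Ψ : Hom R n (fun k => (e₀ k).1.2) d :=
    { f := f
      comm := fun c v => by
        induction v using Finsupp.induction_linear with
        | zero => simp
        | add a b ha hb => simp only [map_add, ha, hb]
        | single x z =>
          obtain ⟨⟨k, a⟩⟩ := x
          rw [shift_single, hf, hf, map_smul, shift_shift]
      mem := fun k a ha => by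
        rw [hf, one_smul]
        have := shift_mem (J := ∅) a subset_rfl (neg_eq_empty_iff.2 ha).subset (hgen k)
        rwa [add_comm] at this }
  refine ⟨_, _, Ψ, fun e I v => ⟨?_, ?_⟩⟩
  · rintro ⟨w, hw, rfl⟩
    refine ⟨Ψ.map_mem hw, fun j => ((w.support.sup fun x => (-x.down.2 j).toNat : ℕ) : ℤ),
      fun j => Int.natCast_nonneg _, fun j hj => ?_, ?_⟩
    · have : (w.support.sup fun x => (-x.down.2 j.down).toNat) = 0 := by
        refine Nat.le_zero.1 (Finset.sup_le fun x hx => ?_)
        have : ¬ x.down.2 j.down < 0 := fun h => hj ((mem_Free.1 hw x hx).1 h)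
        omega
      simp [this]
    · rw [← Ψ.comm]
      set c : Expo n := fun j => ((w.support.sup fun x => (-x.down.2 j).toNat : ℕ) : ℤ)
      rw [← Finsupp.sum_single w, Finsupp.sum, map_sum, map_sum]
      refine Submodule.sum_mem _ fun x hx => ?_
      obtain ⟨⟨k, a⟩⟩ := x
      rw [shift_single]
      show f _ ∈ P
      rw [hf]
      refine Submodule.smul_mem _ _ (hshift _ (fun j => ?_) _ (hgP k))
      have := Finset.le_sup (f := fun x : Mon.{u} n T.card => (-x.down.2 j).toNat) hx
      simp only [Pi.add_apply, c]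
      dsimp at this ⊢
      omega
  · rintro ⟨hv, c, hc, hcI, hP⟩
    obtain ⟨q, hq⟩ := exists_emb_eq (hpos _ hP)
    have hqN : q ∈ Submodule.span (MvPolynomial (Fin (n + 1)) R) (g : Set (Fin r → _)) := by
      rw [hg]; show emb R n r q ∈ P; rw [hq]; exact hP
    have hpol : ∀ q ∈ Submodule.span (MvPolynomial (Fin (n + 1)) R) (g : Set (Fin r → _)),
        ∀ a : MvPolynomial (Fin (n + 1)) R, ∃ w : LW R n T.card,
          (∀ x ∈ w.support, ∀ j, 0 ≤ x.down.2 j) ∧ f w = emb R n r (a • q) := by
      intro q hq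
      induction hq using Submodule.span_induction with
      | mem q hq =>
        intro a
        induction a using MvPolynomial.induction_on' with
        | monomial m z =>
          let s := (emb R n r q).support.image (deg d)
          have hs : ∀ e : s, (q, e.1) ∈ T := fun e =>
            Finset.mem_biUnion.2 ⟨q, hq, Finset.mem_image.2 ⟨e.1, e.2, rfl⟩⟩
          refine ⟨∑ e : s, Finsupp.single (mk (T.equivFin ⟨_, hs e⟩) (castExp m)) z, fun x hx => ?_, ?_⟩
          · obtain ⟨e, -, he⟩ := Finset.mem_biUnion.1 (Finsupp.support_finset_sum hx)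
            obtain rfl := Finset.mem_singleton.1 (Finsupp.support_single_subset he)
            exact fun j => Int.natCast_nonneg _
          · rw [emb_smul, map_sum]
            conv_rhs => rw [eq_sum_degPart d (emb R n r q), map_sum, Finset.smul_sum,
              ← Finset.sum_coe_sort]
            refine Finset.sum_congr rfl fun e _ => ?_
            rw [hf]
            simp only [gen, e₀, Equiv.symm_apply_apply]
        | add a b ha hb =>
          obtain ⟨w, hw, hw'⟩ := ha
          obtain ⟨w', hw2, hw2'⟩ := hb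
          refine ⟨w + w', fun x hx => ?_, by rw [map_add, hw', hw2', add_smul, map_add]⟩
          rcases Finset.mem_union.1 (Finsupp.support_add hx) with h | h
          exacts [hw x h, hw2 x h]
      | zero => exact fun a => ⟨0, by simp, by simp⟩
      | add a b _ _ ha hb =>
        intro t
        obtain ⟨w, hw, hw'⟩ := ha t
        obtain ⟨w', hw2, hw2'⟩ := hb t
        refine ⟨w + w', fun x hx => ?_, by rw [map_add, hw', hw2', smul_add, map_add]⟩
        rcases Finset.mem_union.1 (Finsupp.support_add hx) with h | h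
        exacts [hw x h, hw2 x h]
      | smul t a _ ha =>
        intro t'
        rw [smul_smul]
        exact ha _
    obtain ⟨w, hw, hfw⟩ := hpol q hqN 1
    rw [one_smul, hq] at hfw
    have hneg : neg.{u} (-c) ⊆ I := fun j (hj : -c j.down < 0) => by
      by_contra hjI
      have := hcI j hjI
      omega
    have hsv := shift_mem (J := I) c subset_rfl
      ((neg_eq_empty_iff.2 hc).subset.trans (Set.empty_subset _)) hv
    have h1 : Ψ.f (degPart R (fun k => (e₀ k).1.2) (e + ∑ j, c j) w) = shift R c v := by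
      rw [← Hom.degPart_comm, show Ψ.f w = f w from rfl, hfw, degPart_eq_self hsv]
    refine ⟨shift R (-c) (degPart R (fun k => (e₀ k).1.2) (e + ∑ j, c j) w), ?_, ?_⟩
    · have h2 := shift_mem (J := I) (-c) (Set.empty_subset _) hneg
        (degPart_mem (d := fun k => (e₀ k).1.2) (e + ∑ j, c j) (I := ∅)
          (v := w) fun x hx => (neg_eq_empty_iff.2 (hw x hx)).subset)
      have he : e + ∑ j, c j + ∑ j, (-c) j = e := by simp [Finset.sum_neg_distrib]
      rwa [he] at h2
    · rw [Ψ.comm, h1, shift_shift, add_neg_cancel, shift_zero]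

/-- The kernel of a homogeneous map is the image of one. -/
theorem exists_ker {d' : Fin r' → ℤ} {d : Fin r → ℤ} (Φ : Hom R n d' d) :
    ∃ (r'' : ℕ) (d'' : Fin r'' → ℤ) (Ψ : Hom R n d'' d'), ∀ (e : ℤ) (I : Set (Idx.{u} n)),
      Ψ.img e I = Free R d' e I ⊓ LinearMap.ker Φ.f := by
  classical
  let P : Submodule R (LW R n r') :=
    Finsupp.supported R R {x | ∀ j, 0 ≤ x.down.2 j} ⊓ LinearMap.ker Φ.f
  have hP1 : ∀ c : Expo n, (∀ j, 0 ≤ c j) → ∀ v ∈ P, shift R c v ∈ P := fun c hc v hv => by
    refine ⟨(Finsupp.mem_supported _ _).2 fun x hx j => ?_, ?_⟩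
    · obtain ⟨y, hy, rfl⟩ := mem_support_shift hx
      exact add_nonneg ((Finsupp.mem_supported _ _).1 hv.1 hy j) (hc j)
    · show Φ.f _ = 0
      rw [Φ.comm, show Φ.f v = 0 from hv.2, map_zero]
  have hP2 : ∀ e, ∀ v ∈ P, degPart R d' e v ∈ P := fun e v hv => by
    refine ⟨(Finsupp.mem_supported _ _).2 fun x hx => ?_, ?_⟩
    · simp only [degPart, LinearMap.coe_mk, AddHom.coe_mk, Finsupp.support_filter, Finset.coe_filter,
        Set.mem_setOf_eq] at hx
      exact (Finsupp.mem_supported _ _).1 hv.1 hx.1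
    · show Φ.f _ = 0
      rw [← Φ.degPart_comm, show Φ.f v = 0 from hv.2, map_zero]
  obtain ⟨r'', d'', Ψ, hΨ⟩ := exists_hom_of_stable d' P hP1 hP2
    fun v hv x hx => (Finsupp.mem_supported _ _).1 hv.1 hx
  refine ⟨r'', d'', Ψ, fun e I => Submodule.ext fun v => (hΨ e I v).trans ⟨?_, ?_⟩⟩
  · rintro ⟨hv, c, -, -, -, hP⟩
    refine ⟨hv, ?_⟩
    have h := congrArg (shift R (-c)) (LinearMap.mem_ker.1 hP)
    rw [Φ.comm, shift_shift, add_neg_cancel, shift_zero, map_zero] at h
    exact h
  · rintro ⟨hv, hk⟩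
    refine ⟨hv, fun j => ((v.support.sup fun x => (-x.down.2 j).toNat : ℕ) : ℤ),
      fun j => Int.natCast_nonneg _, fun j hj => ?_, ?_, ?_⟩
    · have : (v.support.sup fun x => (-x.down.2 j.down).toNat) = 0 := by
        refine Nat.le_zero.1 (Finset.sup_le fun x hx => ?_)
        have : ¬ x.down.2 j.down < 0 := fun h => hj ((mem_Free.1 hv x hx).1 h)
        omega
      simp [this]
    · refine (Finsupp.mem_supported _ _).2 fun x hx j => ?_
      obtain ⟨y, hy, rfl⟩ := mem_support_shift hx
      have := Finset.le_sup (f := fun x : Mon.{u} n r' => (-x.down.2 j).toNat) hy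
      simp only [Pi.add_apply]
      omega
    · show Φ.f _ = 0
      rw [Φ.comm, show Φ.f v = 0 from hk, map_zero]

/-- Finiteness for images of homogeneous maps. -/
theorem finH_img : ∀ {r' r : ℕ} {d' : Fin r' → ℤ} {d : Fin r → ℤ} (Φ : Hom R n d' d) (e : ℤ) (p : ℕ),
    FinH (Φ.img e : Set (Idx.{u} n) → _) p := by
  suffices key : ∀ j p, n + 1 ≤ p + j → ∀ {r' r : ℕ} {d' : Fin r' → ℤ} {d : Fin r → ℤ}
      (Φ : Hom R n d' d) (e : ℤ), FinH (Φ.img e : Set (Idx.{u} n) → _) p from
    fun {_ _ _ _} Φ e p => key (n + 1) p (by omega) Φ e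
  intro j
  induction j with
  | zero =>
    intro p hp r' r d' d Φ e
    obtain ⟨q, rfl⟩ : ∃ q, p = q + 1 := ⟨p - 1, by omega⟩
    exact ⟨⊥, Submodule.fg_bot, bot_le, fun s hs =>
      Submodule.mem_sup_right (mem_B_of_card_le n _ (Φ.img_mono e) q (by omega) s hs)⟩
  | succ j ih =>
    intro p hp r' r d' d Φ e
    obtain ⟨r'', d'', Ψ, hΨ⟩ := exists_ker Φ
    refine finH_map (Free_mono d' e) Φ.f (finH_free d' e p) ?_
    have h := ih (p + 1) (by omega) Ψ e
    rwa [show (Ψ.img e : Set (Idx.{u} n) → _) = fun I => Free R d' e I ⊓ LinearMap.ker Φ.f from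
      funext (hΨ e)] at h

/-- Finiteness for quotients of free modules by images. -/
theorem finQ_img {d' : Fin r' → ℤ} {d : Fin r → ℤ} (Φ : Hom R n d' d) (e : ℤ) (p : ℕ) :
    FinQ (Free R d e : Set (Idx.{u} n) → _) (Φ.img e) p :=
  finQ_of_finH (Free_mono d e) (Φ.img_mono e) (Φ.img_le e) (finH_free d e p) (finH_img Φ e (p + 1))

end Groth.Agent.CechSys
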